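import Mathlib
import Groth.Agent.NoethApprox.Basic

/-!
# Noetherian approximation keeping a property of all fibres
-/

set_option autoImplicit false
set_option backward.isDefEq.respectTransparency false

universe u

open AlgebraicGeometry CategoryTheory Limits TopologicalSpace Topology

namespace Groth.Agent.FibreApprox

/-- A constructible set missed by `Spec A` is missed by the spectrum of a finitely generated subalgebra. -/
theorem exists_subalgebra {A₁ A : Type u} [CommRing A₁] [CommRing A] [Algebra.FiniteType ℤ A₁]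
    (φ : A₁ →+* A) (C : Set (PrimeSpectrum A₁)) (hC : IsConstructible C)
    (h : ∀ p, PrimeSpectrum.comap φ p ∉ C) :
    ∃ (A₂ : Subalgebra ℤ A) (φ₂ : A₁ →+* A₂), A₂.FG ∧ A₂.val.toRingHom.comp φ₂ = φ ∧
      ∀ q, PrimeSpectrum.comap φ₂ q ∉ C := by
  classical
  obtain ⟨D, rfl⟩ := PrimeSpectrum.exists_constructibleSetData_iff.2 hC
  obtain ⟨gens, hgens⟩ := (Algebra.FiniteType.out : (⊤ : Subalgebra ℤ A₁).FG)
  have hD : ∀ d : D, ∃ (N : ℕ) (c : Fin d.1.n → A), ∑ i, c i * φ (d.1.g i) = φ d.1.f ^ N := by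
    intro d
    have hsub : PrimeSpectrum.zeroLocus (Set.range fun i => φ (d.1.g i)) ⊆ PrimeSpectrum.zeroLocus {φ d.1.f} := by
      intro p hp
      by_contra hn
      refine h p (Set.mem_biUnion d.2 ?_)
      refine ⟨?_, fun hf => hn ?_⟩
      · rintro _ ⟨i, rfl⟩
        exact hp ⟨i, rfl⟩
      · rintro _ rfl
        exact hf rfl
    rw [← PrimeSpectrum.zeroLocus_span (Set.range _), ← PrimeSpectrum.zeroLocus_span {φ d.1.f}, PrimeSpectrum.zeroLocus_subset_zeroLocus_iff, Ideal.span_le, Set.singleton_subset_iff] at hsub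
    obtain ⟨N, hN⟩ := hsub
    obtain ⟨c, hc⟩ := Ideal.mem_span_range_iff_exists_fun.1 hN
    exact ⟨N, c, hc⟩
  choose N c hc using hD
  let s : Set A := φ '' (gens : Set A₁) ∪ ⋃ d : D, Set.range (c d)
  have hs : s.Finite := (gens.finite_toSet.image φ).union (Set.finite_iUnion fun d => Set.finite_range _)
  let A₂ : Subalgebra ℤ A := Algebra.adjoin ℤ s
  have hle : ∀ a, φ a ∈ A₂ := by
    intro a
    have ha : a ∈ Algebra.adjoin ℤ (gens : Set A₁) := hgens ▸ Algebra.mem_top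
    have h' : φ.toIntAlgHom a ∈ (Algebra.adjoin ℤ (gens : Set A₁)).map φ.toIntAlgHom :=
      ⟨a, ha, rfl⟩
    rw [AlgHom.map_adjoin] at h'
    exact Algebra.adjoin_mono (Set.subset_union_left) h'
  let φ₂ : A₁ →+* A₂ := φ.codRestrict A₂ hle
  refine ⟨A₂, φ₂, Subalgebra.fg_def.2 ⟨s, hs, rfl⟩, RingHom.ext fun _ => rfl, ?_⟩
  intro q hq
  obtain ⟨d, hd, hqd⟩ := Set.mem_iUnion₂.1 hq
  refine hqd.2 ?_
  rintro _ rfl
  have hmem : ∀ i, c ⟨d, hd⟩ i ∈ A₂ := fun i =>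
    Algebra.subset_adjoin (Or.inr (Set.mem_iUnion.2 ⟨⟨d, hd⟩, i, rfl⟩))
  have he : φ₂ d.f ^ N ⟨d, hd⟩ = ∑ i, (⟨c ⟨d, hd⟩ i, hmem i⟩ : A₂) * φ₂ (d.g i) := by
    refine Subtype.ext ?_
    push_cast
    exact (hc ⟨d, hd⟩).symm
  have hm : φ₂ d.f ^ N ⟨d, hd⟩ ∈ q.asIdeal :=
    he ▸ Ideal.sum_mem _ fun i _ => Ideal.mul_mem_left _ _ (hqd.1 ⟨i, rfl⟩)
  exact q.2.mem_of_pow_mem _ hm

/-- Approximation of an affine morphism, keeping a base change invariant property of all fibres with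
constructible locus. -/
theorem exists_approx_forall (E : ∀ ⦃X Y : Scheme.{u}⦄, (X ⟶ Y) → Set Y)
    (hbc : ∀ ⦃X Y X' Y' : Scheme.{u}⦄ (f : X ⟶ Y) (g : Y' ⟶ Y) (f' : X' ⟶ Y') (g' : X' ⟶ X),
      IsPullback g' f' f g → LocallyOfFiniteType f → ∀ y : Y', (y ∈ E f' ↔ g y ∈ E f))
    (hcons : ∀ ⦃X Y : Scheme.{u}⦄ (f : X ⟶ Y), LocallyOfFinitePresentation f → QuasiCompact f →
      QuasiSeparated f → IsLocallyConstructible (E f))
    {X S : Scheme.{u}} (f : X ⟶ S) [IsAffine X] [IsAffine S] [LocallyOfFinitePresentation f]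
    (h : ∀ s, s ∈ E f) :
    ∃ (X₀ S₀ : Scheme.{u}) (f₀ : X₀ ⟶ S₀) (g : S ⟶ S₀) (g' : X ⟶ X₀), IsAffine X₀ ∧ IsAffine S₀ ∧
      IsPullback g' f f₀ g ∧ Algebra.FiniteType ℤ Γ(S₀, ⊤) ∧ LocallyOfFiniteType f₀ ∧
      (Flat f → Flat f₀) ∧ ∀ s₀, s₀ ∈ E f₀ := by
  obtain ⟨X₁, S₁, f₁, g, g', hX₁, hS₁, hsq, hft, hlft, hflat⟩ := NoethApprox.exists_approx f
  haveI : IsNoetherianRing Γ(S₁, ⊤) := Algebra.FiniteType.isNoetherianRing ℤ _
  haveI : LocallyOfFinitePresentation f₁ :=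
    (HasRingHomProperty.iff_of_isAffine (P := @LocallyOfFinitePresentation) (f := f₁)).mpr
      (RingHom.FinitePresentation.of_finiteType.1
        ((HasRingHomProperty.iff_of_isAffine (P := @LocallyOfFiniteType) (f := f₁)).mp hlft))
  have hE₁ : IsConstructible (E f₁)ᶜ :=
    (hcons f₁ inferInstance inferInstance inferInstance).isConstructible.compl
  let ψ : S₁ ≅ Spec Γ(S₁, ⊤) := S₁.isoSpec
  have hC : IsConstructible (ψ.inv.base ⁻¹' (E f₁)ᶜ) :=
    hE₁.preimage_of_isOpenEmbedding ψ.inv.isOpenEmbedding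
  let φ : Γ(S₁, ⊤) →+* Γ(S, ⊤) := g.appTop.hom
  have hmiss : ∀ p, PrimeSpectrum.comap φ p ∉ ψ.inv.base ⁻¹' (E f₁)ᶜ := by
    intro p hp
    have e : ψ.inv.base ((Spec.map g.appTop).base p) = g.base (S.isoSpec.inv.base p) :=
      congr($(Scheme.isoSpec_inv_naturality g).base p)
    exact (e ▸ hp : g.base (S.isoSpec.inv.base p) ∉ E f₁) ((hbc f₁ g f g' hsq hlft _).1 (h _))
  obtain ⟨A₂, φ₂, hA₂, hcomp, hA₂C⟩ := exists_subalgebra φ _ hC hmiss
  let b : Spec (CommRingCat.of A₂) ⟶ S₁ := Spec.map (CommRingCat.ofHom φ₂) ≫ ψ.inv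
  let k : S ⟶ Spec (CommRingCat.of A₂) := S.isoSpec.hom ≫ Spec.map (CommRingCat.ofHom A₂.val.toRingHom)
  have hk : k ≫ b = g := by
    simp only [k, b, Category.assoc]
    rw [← Spec.map_comp_assoc, show CommRingCat.ofHom φ₂ ≫ CommRingCat.ofHom A₂.val.toRingHom = g.appTop from
      CommRingCat.hom_ext hcomp]
    simp [ψ, Scheme.isoSpec_inv_naturality]
  haveI : IsAffine (pullback f₁ b) := inferInstance
  refine ⟨pullback f₁ b, Spec (CommRingCat.of A₂), pullback.snd f₁ b, k,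
    pullback.lift g' (f ≫ k) (by rw [hsq.w, Category.assoc, hk]), inferInstance, inferInstance, ?_, ?_,
    inferInstance, fun hF => ?_, fun s₀ => ?_⟩
  · refine IsPullback.of_right ?_ (pullback.lift_snd _ _ _) (IsPullback.of_hasPullback f₁ b)
    rw [pullback.lift_fst, hk]
    exact hsq
  · haveI : Algebra.FiniteType ℤ A₂ := ⟨A₂.fg_top.mpr hA₂⟩
    exact Algebra.FiniteType.equiv ‹_›
      (Scheme.ΓSpecIso (CommRingCat.of A₂)).commRingCatIsoToRingEquiv.symm.toIntAlgEquiv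
  · haveI := hflat hF
    infer_instance
  · refine (hbc f₁ b _ _ (IsPullback.of_hasPullback f₁ b) hlft s₀).2 ?_
    exact Classical.byContradiction fun hn => hA₂C s₀ hn

end Groth.Agent.FibreApprox
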