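import Groth.Agent.FibreApprox.Basic
import Groth.Agent.FibConstr.GeomRed
import Groth.Agent.FibConstr.Dim
import Groth.Agent.GeomComp.Fin
import Groth.Agent.GeomComp.Count
import Groth.Agent.GeomComp.Const

/-!
# Geometric properties of morphisms through their fibres
-/

set_option autoImplicit false
set_option backward.isDefEq.respectTransparency false

universe u

open AlgebraicGeometry CategoryTheory Limits Topology

namespace Groth.Agent.FibreApprox

variable {X Y : Scheme.{u}} (f : X ⟶ Y)

theorem geometricallyReduced_iff_forall :
    GeometricallyReduced f ↔ ∀ y, GeometricallyReduced (f.fiberToSpecResidueField y) := by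
  refine ⟨fun h y => MorphismProperty.pullback_snd (P := @GeometricallyReduced) _ _ h, fun h => ?_⟩
  exact ⟨geometrically_iff_of_isClosedUnderIsomorphisms.mpr fun E _ s =>
    (FibConstr.geometricallyReduced_fibre_iff f (s (IsLocalRing.closedPoint E))).1 (h _) E s rfl⟩

theorem geometricallyIrreducible_iff_forall :
    GeometricallyIrreducible f ↔ ∀ y, MoreMor.nGeomIrredComp f y = 1 := by
  constructor
  · intro h y
    haveI hsp : IrreducibleSpace ↥(MoreMor.geomFiber f y) :=
      (MorphismProperty.pullback_snd (P := @GeometricallyIrreducible) f (Y.fromSpecResidueField y) h : GeometricallyIrreducible (f.fiberToSpecResidueField y)).geometrically_irreducibleSpace _ _ _ (IsPullback.of_hasPullback _ _)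
    have huniv : irreducibleComponents ↥(MoreMor.geomFiber f y) = {Set.univ} :=
      Set.eq_singleton_iff_unique_mem.2 ⟨⟨(irreducibleSpace_def _).1 hsp, fun T _ _ => Set.subset_univ T⟩,
        fun T hT => (Set.subset_univ T).antisymm (hT.2 ((irreducibleSpace_def _).1 hsp) (Set.subset_univ T))⟩
    rw [MoreMor.nGeomIrredComp, huniv, Set.encard_singleton]
  · intro h
    refine ⟨fun K _ γ Z fst snd hpb => ?_⟩
    let Ω := AlgebraicClosure K
    let e : Spec (CommRingCat.of Ω) ⟶ Spec (CommRingCat.of K) := Spec.map (CommRingCat.ofHom (algebraMap K Ω))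
    haveI : Surjective e := ⟨fun p => ⟨IsLocalRing.closedPoint Ω, Subsingleton.elim (α := PrimeSpectrum K) _ _⟩⟩
    have h2 := (IsPullback.of_hasPullback snd e).paste_horiz hpb
    have hcount : GeomComp.nIrr (pullback snd e) = 1 := by
      rw [GeomComp.nIrr_iso h2.isoPullback, (GeomComp.count_pt (K := Ω) f (e ≫ γ) (IsLocalRing.closedPoint Ω)).1]
      exact h _
    obtain ⟨T, hT⟩ := Set.encard_eq_one.1 hcount
    have hT' : T ∈ irreducibleComponents ↥(pullback snd e) := hT ▸ rfl
    have hirr : IrreducibleSpace ↥(pullback snd e) := by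
      have huniv : T = Set.univ := Set.eq_univ_of_forall fun w => by
        have := irreducibleComponent_mem_irreducibleComponents w
        rw [hT, Set.mem_singleton_iff] at this
        exact this ▸ mem_irreducibleComponent
      have h3 := hT'.1
      rw [huniv] at h3
      exact (irreducibleSpace_def _).2 h3
    exact (pullback.fst snd e).surjective.irreducibleSpace (pullback.fst snd e).continuous

theorem geometricallyConnected_iff_forall :
    GeometricallyConnected f ↔ ∀ y, MoreMor.nGeomConnComp f y = 1 := by
  constructor
  · intro h y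
    haveI : ConnectedSpace ↥(MoreMor.geomFiber f y) :=
      (MorphismProperty.pullback_snd (P := @GeometricallyConnected) f (Y.fromSpecResidueField y) h : GeometricallyConnected (f.fiberToSpecResidueField y)).geometrically_connectedSpace _ _ _ (IsPullback.of_hasPullback _ _)
    rw [MoreMor.nGeomConnComp, ENat.card_eq_one_iff_unique]
    exact (unique_iff_subsingleton_and_nonempty _).2 ⟨inferInstance, ⟨ConnectedComponents.mk (Classical.arbitrary _)⟩⟩
  · intro h
    refine ⟨fun K _ γ Z fst snd hpb => ?_⟩
    let Ω := AlgebraicClosure K
    let e : Spec (CommRingCat.of Ω) ⟶ Spec (CommRingCat.of K) := Spec.map (CommRingCat.ofHom (algebraMap K Ω))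
    haveI : Surjective e := ⟨fun p => ⟨IsLocalRing.closedPoint Ω, Subsingleton.elim (α := PrimeSpectrum K) _ _⟩⟩
    have h2 := (IsPullback.of_hasPullback snd e).paste_horiz hpb
    have hcount : ENat.card (_root_.ConnectedComponents ↥(pullback snd e)) = 1 := by
      refine (GeomCount.card_components_iso h2.isoPullback).trans ?_
      exact (GeomComp.count_pt (K := Ω) f (e ≫ γ) (IsLocalRing.closedPoint Ω)).2.trans (h _)
    rw [ENat.card_eq_one_iff_unique] at hcount
    obtain ⟨hs, ⟨c⟩⟩ := (unique_iff_subsingleton_and_nonempty _).1 hcount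
    obtain ⟨w, -⟩ := ConnectedComponents.surjective_coe c
    haveI : ConnectedSpace ↥(pullback snd e) := connectedSpace_iff_connectedComponent.2 ⟨w,
      Set.eq_univ_of_forall fun v => ConnectedComponents.coe_eq_coe'.1 (Subsingleton.elim _ _)⟩
    exact (pullback.fst snd e).surjective.connectedSpace (pullback.fst snd e).continuous

end Groth.Agent.FibreApprox
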