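import Groth.Agent.FibreApprox.Props
import Groth.Agent.RelGCILib.Fibre
import Groth.Agent.S9456
import Groth.Agent.S0444
import Groth.Prelude.Def_RegImm

/-!
# Relative global complete intersections come from finitely generated rings
-/

set_option autoImplicit false

universe u

open AlgebraicGeometry CategoryTheory Limits Topology

namespace Groth.Agent.FibreApprox

/-- The structure morphism of a presentation. -/
noncomputable def presMap (R : Type u) [CommRing R] (n c : ℕ) (F : Fin c → MvPolynomial (Fin n) R) :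
    Spec (CommRingCat.of (Synt.RelGCIRing R n c F)) ⟶ Spec (CommRingCat.of R) :=
  Spec.map (CommRingCat.ofHom (algebraMap R (Synt.RelGCIRing R n c F)))

/-- The map of presentations along a ring map. -/
noncomputable def presHom {A R : Type u} [CommRing A] [CommRing R] (φ : A →+* R) {n c : ℕ}
    (F : Fin c → MvPolynomial (Fin n) A) :
    Synt.RelGCIRing A n c F →+* Synt.RelGCIRing R n c (fun i => MvPolynomial.map φ (F i)) :=
  Ideal.Quotient.lift _ ((Ideal.Quotient.mk _).comp (MvPolynomial.map φ)) fun a ha => by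
    have h : Ideal.span (Set.range F) ≤
        RingHom.ker ((Ideal.Quotient.mk (Ideal.span (Set.range fun i => MvPolynomial.map φ (F i)))).comp (MvPolynomial.map φ)) :=
      Ideal.span_le.2 fun x hx => by
        obtain ⟨i, rfl⟩ := hx
        exact Ideal.Quotient.eq_zero_iff_mem.2 (Ideal.subset_span ⟨i, rfl⟩)
    exact h ha

theorem isPullback_presMap {A R : Type u} [CommRing A] [CommRing R] (φ : A →+* R) {n c : ℕ}
    (F : Fin c → MvPolynomial (Fin n) A) :
    IsPullback (Spec.map (CommRingCat.ofHom (presHom φ F)))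
      (presMap R n c (fun i => MvPolynomial.map φ (F i))) (presMap A n c F) (Spec.map (CommRingCat.ofHom φ)) := by
  letI := φ.toAlgebra
  letI : Algebra (MvPolynomial (Fin n) A ⧸ Ideal.span (Set.range F))
      (Synt.RelGCIRing R n c fun i => MvPolynomial.map φ (F i)) := (presHom φ F).toAlgebra
  haveI : IsScalarTower A (MvPolynomial (Fin n) A ⧸ Ideal.span (Set.range F))
      (Synt.RelGCIRing R n c fun i => MvPolynomial.map φ (F i)) := ⟨fun a b z => by
    obtain ⟨b, rfl⟩ := Ideal.Quotient.mk_surjective b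
    obtain ⟨z, rfl⟩ := Ideal.Quotient.mk_surjective z
    refine (congrArg (Ideal.Quotient.mk (Ideal.span (Set.range fun i => MvPolynomial.map φ (F i)))) (?_ :
      MvPolynomial.map φ (a • b) * z = a • (MvPolynomial.map φ b * z))).trans ?_
    · rw [Algebra.smul_def a b, MvPolynomial.algebraMap_eq, map_mul, MvPolynomial.map_C,
        Algebra.smul_def a (MvPolynomial.map φ b * z), mul_assoc]
      rfl
    · rfl⟩
  haveI := S9456.isPushout_of_presentation (A := A) (R := R) (S := Synt.RelGCIRing R n c fun i => MvPolynomial.map φ (F i))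
    (Ideal.Quotient.mkₐ R _) (Ideal.Quotient.mkₐ_surjective R _) (Ideal.span (Set.range F)) (fun _ => rfl) (by
      intro x hx
      have hx' : x ∈ Ideal.span (Set.range fun i => MvPolynomial.map φ (F i)) := Ideal.Quotient.eq_zero_iff_mem.1 hx
      refine (Ideal.span_le.2 ?_) hx'
      rintro _ ⟨i, rfl⟩
      exact Ideal.mem_map_of_mem _ (Ideal.subset_span ⟨i, rfl⟩))
  exact (isPullback_SpecMap_of_isPushout _ _ _ _
    (CommRingCat.isPushout_of_isPushout A R (MvPolynomial (Fin n) A ⧸ Ideal.span (Set.range F))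
      (Synt.RelGCIRing R n c fun i => MvPolynomial.map φ (F i)))).flip

/-- The locus of good fibre dimension. -/
def goodDim (n c : ℕ) {X Y : Scheme.{u}} (f : X ⟶ Y) : Set Y :=
  {y | topologicalKrullDim ↥(f.fiber y) = ⊥ ∨
    (c ≤ n ∧ topologicalKrullDim ↥(f.fiber y) = ((n - c : ℕ) : WithBot ℕ∞))}

theorem isRelGCI_iff {R : Type u} [CommRing R] {n c : ℕ} (F : Fin c → MvPolynomial (Fin n) R) :
    Synt.IsRelGCI R n c F ↔ ∀ y, y ∈ goodDim n c (presMap R n c F) := by
  haveI : LocallyOfFiniteType (presMap R n c F) := by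
    rw [presMap, HasRingHomProperty.Spec_iff (P := @LocallyOfFiniteType)]
    exact RingHom.finiteType_algebraMap.2 inferInstance
  have hdim : ∀ p : PrimeSpectrum R, topologicalKrullDim ↥((presMap R n c F).fiber p) =
      ringKrullDim (p.asIdeal.Fiber (Synt.RelGCIRing R n c F)) := fun p =>
    (GeomUnib.FibreDimNhds.dim_fibre_eq (presMap R n c F) p).trans
      ((FibreDim.dim_homeo (PrimeSpectrum.preimageHomeomorphFiber R (Synt.RelGCIRing R n c F) p)).trans
        (PrimeSpectrum.topologicalKrullDim_eq_ringKrullDim _))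
  constructor
  · intro h p
    rcases subsingleton_or_nontrivial (p.asIdeal.Fiber (Synt.RelGCIRing R n c F)) with hs | hn
    · exact Or.inl ((hdim p).trans (ringKrullDim_eq_bot_of_subsingleton))
    · exact Or.inr ⟨(h p hn).1, (hdim p).trans (h p hn).2⟩
  · intro h p hn
    rcases h p with h1 | ⟨h1, h2⟩
    · exact absurd ((hdim p).symm.trans h1) (fun e => absurd (ringKrullDim_nonneg_of_nontrivial (R := p.asIdeal.Fiber (Synt.RelGCIRing R n c F))) (by simp [e]))
    · exact ⟨h1, (hdim p).symm.trans h2⟩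

theorem goodDim_bc (n c : ℕ) {X Y X' Y' : Scheme.{u}} (f : X ⟶ Y) [LocallyOfFiniteType f] (g : Y' ⟶ Y)
    (f' : X' ⟶ Y') (g' : X' ⟶ X) (h : IsPullback g' f' f g) (y : Y') :
    y ∈ goodDim n c f' ↔ g y ∈ goodDim n c f := by
  simp only [goodDim, Set.mem_setOf_eq, FibConstr.dim_fibre_bc f g f' g' h y]

theorem exists_relGCI_model {R : Type u} [CommRing R] {n c : ℕ} (F : Fin c → MvPolynomial (Fin n) R)
    (h : Synt.IsRelGCI R n c F) :
    ∃ (A : Subalgebra ℤ R) (G : Fin c → MvPolynomial (Fin n) A), A.FG ∧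
      (∀ i, MvPolynomial.map A.val.toRingHom (G i) = F i) ∧ Synt.IsRelGCI A n c G := by
  classical
  let s : Finset R := Finset.univ.biUnion fun i => (F i).support.image fun m => (F i).coeff m
  let A₁ : Subalgebra ℤ R := Algebra.adjoin ℤ (s : Set R)
  haveI : Algebra.FiniteType ℤ A₁ := ⟨A₁.fg_top.mpr (Subalgebra.fg_adjoin_finset s)⟩
  have hF : ∀ i, ∃ G : MvPolynomial (Fin n) A₁, MvPolynomial.map A₁.val.toRingHom G = F i := by
    intro i
    refine MvPolynomial.mem_range_map_iff_coeffs_subset.2 ?_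
    intro x hx
    obtain ⟨m, hm, rfl⟩ := MvPolynomial.mem_coeffs_iff.1 hx
    exact ⟨⟨_, Algebra.subset_adjoin (Finset.mem_biUnion.2 ⟨i, Finset.mem_univ i, Finset.mem_image_of_mem _ hm⟩)⟩, rfl⟩
  choose G₁ hG₁ using hF
  have h' : Synt.IsRelGCI R n c (fun i => MvPolynomial.map A₁.val.toRingHom (G₁ i)) := (funext hG₁).symm ▸ h
  let f₁ := presMap A₁ n c G₁
  haveI : IsNoetherianRing A₁ := Algebra.FiniteType.isNoetherianRing ℤ _
  haveI : LocallyOfFinitePresentation f₁ := by
    rw [show f₁ = Spec.map _ from rfl, HasRingHomProperty.Spec_iff (P := @LocallyOfFinitePresentation)]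
    exact RingHom.FinitePresentation.of_finiteType.1 (RingHom.finiteType_algebraMap.2 inferInstance)
  have hE : IsConstructible (goodDim n c f₁)ᶜ := by
    refine (IsLocallyConstructible.isConstructible ?_).compl
    by_cases hcn : c ≤ n
    · have : goodDim n c f₁ = {y | topologicalKrullDim ↥(f₁.fiber y) = ⊥} ∪
          {y | topologicalKrullDim ↥(f₁.fiber y) = ((n - c : ℕ) : WithBot ℕ∞)} := by
        ext y; simp [goodDim, hcn]
      rw [this]
      exact (FibConstr.isLocallyConstructible_dim_eq f₁ ⊥).union (FibConstr.isLocallyConstructible_dim_eq f₁ _)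
    · have : goodDim n c f₁ = {y | topologicalKrullDim ↥(f₁.fiber y) = ⊥} := by
        ext y; simp [goodDim, hcn]
      rw [this]
      exact FibConstr.isLocallyConstructible_dim_eq f₁ ⊥
  have hmiss : ∀ p, PrimeSpectrum.comap A₁.val.toRingHom p ∉ (goodDim n c f₁)ᶜ := by
    intro p hp
    have hpb := isPullback_presMap A₁.val.toRingHom G₁
    exact hp ((goodDim_bc n c f₁ _ _ _ hpb p).1 ((isRelGCI_iff _).1 h' p))
  obtain ⟨A₂, φ₂, hA₂, hcomp, hC⟩ := exists_subalgebra A₁.val.toRingHom _ hE hmiss
  refine ⟨A₂, fun i => MvPolynomial.map φ₂ (G₁ i), hA₂, fun i => ?_, (isRelGCI_iff _).2 fun y => ?_⟩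
  · rw [MvPolynomial.map_map, hcomp, hG₁]
  · exact (goodDim_bc n c f₁ _ _ _ (isPullback_presMap φ₂ G₁) y).2 (Classical.byContradiction fun hn => hC y hn)

end Groth.Agent.FibreApprox
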